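import Cfsg.Agent.H8.WA.SmallCentBasic
import Cfsg.Agent.H77.WA.RankTwoDefs
import Cfsg.Agent.H25.InvolutionTransfer

/-!
# The transfer step for a strongly closed four-group with small centralisers

For an outer involution `e` take a largest 2-subgroup `Q` of `C(A)` over `A` normalised by `e` with
`C_Q(e) = A` on which an element of order a power of 3 in `N(A) ∩ C(e)` acts fixed-point-freely.
Then `Q⟨e⟩` is a Sylow 2-subgroup, and Thompson transfer gives a subgroup of index 2.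
-/

set_option autoImplicit false
set_option linter.style.haveILetI false
set_option linter.unusedSectionVars false

namespace Cfsg.Agent.H8.WA

open Subgroup Cfsg.Agent
open Cfsg.Agent.H77.WA (TwoCfg SmallCent SmallCentStep Outer centTwo)

universe u

variable {G : Type u} [Group G] [Finite G] {S : Sylow 2 G} {A : Subgroup G} {e : G}

/-! ### Elements of `C(A)` -/

theorem cent_comm {x a : G} (hx : x ∈ centralizer (A : Set G)) (ha : a ∈ A) : Commute a x :=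
  mem_centralizer_iff.mp hx a ha

theorem conj_cent {n x : G} (hn : n ∈ normalizer (A : Set G))
    (hx : x ∈ centralizer (A : Set G)) : n * x * n⁻¹ ∈ centralizer (A : Set G) := by
  refine mem_centralizer_iff.mpr fun a ha => ?_
  have ha' : n⁻¹ * a * n ∈ A := (mem_normalizer_iff''.mp hn a).mp ha
  have h : Commute (n * (n⁻¹ * a * n) * n⁻¹) (n * x * n⁻¹) :=
    (cent_comm hx ha').map (MulAut.conj n).toMonoidHom
  simpa [mul_assoc] using h.eq

theorem A_le_cent (hT : TwoCfg S A) : A ≤ centralizer (A : Set G) := by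
  haveI := hT.cfg.elem.1
  exact le_centralizer A

theorem A_two (hT : TwoCfg S A) : IsPGroup 2 A :=
  isPGroup_of_forall fun a ha => ⟨1, hT.cfg.elem.2 a ha⟩

theorem sq_one (hT : TwoCfg S A) {a : G} (ha : a ∈ A) : a * a = 1 := by
  simpa [pow_two] using hT.cfg.elem.2 a ha

theorem Outer.sq (he : Outer A e) : e * e = 1 := by
  rw [← pow_two, ← he.2.1, pow_orderOf_eq_one]

/-- A 2-element of `C(A) ∩ C(f)`, for an outer involution `f`, lies in `A ∪ fA`. -/
theorem small' (hT : TwoCfg S A) (hC : SmallCent A) {f x : G} (hf : Outer A f)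
    (hx : x ∈ centralizer (A : Set G)) (h2 : ∃ k : ℕ, x ^ 2 ^ k = 1) (hc : Commute x f) :
    x ∈ A ∨ f * x ∈ A := by
  have hff := Outer.sq hf
  have hn : ∀ a ∈ A, f * a * f ∈ A := fun a ha => by
    rw [← (cent_comm hf.1 ha).eq, mul_assoc, hff, mul_one]; exact ha
  set E := ext2 A f hff hn with hE
  have hEX : E ≤ centTwo A f := ext2_le
    (le_inf (A_le_cent hT) fun a ha => mem_centralizer_singleton_iff.mpr (cent_comm hf.1 ha).eq)
    ⟨hf.1, mem_centralizer_singleton_iff.mpr rfl⟩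
  have hxN : zpowers x ≤ normalizer (E : Set G) := zpowers_le.mpr (mem_normalizer_of_conj_mem
    fun y hy => by
      have : Commute x y := by
        rcases hy with hy | hy
        · exact (cent_comm hx hy).symm
        · have := hc.mul_right (cent_comm hx hy).symm
          rwa [← mul_assoc, hff, one_mul] at this
      rwa [conj_eq_iff_commute.mpr this])
  obtain ⟨k, hk⟩ := h2
  have hP := (isPGroup_zpowers hk).to_sup_of_normal_right' (isPGroup_ext2 (A_two hT)) hxN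
  have hle : zpowers x ⊔ E ≤ centTwo A f :=
    sup_le (zpowers_le.mpr ⟨hx, mem_centralizer_singleton_iff.mpr hc.eq⟩) hEX
  have hc8 := hC.small f hf _ hP hle
  have hEc : Nat.card E = 8 := by rw [hE, card_ext2 hf.2.2, hT.card]
  have hc8' : Nat.card ↥(zpowers x ⊔ E) ≤ 8 := hc8
  have heq : E = zpowers x ⊔ E := eq_of_le_of_card_ge le_sup_right (hEc.symm ▸ hc8')
  have : x ∈ E := heq ▸ mem_sup_left (mem_zpowers x)
  exact this

/-- Every 2-subgroup of `C(A)` is conjugate into `S` under `C(A)`. -/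
theorem exists_conj_le_S (hT : TwoCfg S A) {R : Subgroup G} (hR : R ≤ centralizer (A : Set G))
    (h2 : IsPGroup 2 R) :
    ∃ c ∈ centralizer (A : Set G), ∀ r ∈ R, c * r * c⁻¹ ∈ (S : Subgroup G) := by
  obtain ⟨c, hc, h⟩ := exists_conj_le (S.subtype hT.cent) hR h2
  refine ⟨c, hc, fun r hr => ?_⟩
  simpa [Sylow.coe_subtype, map_subgroupOf_eq_of_le hT.cent] using h r hr

/-- An outer involution is not conjugate into `A`. -/
theorem conj_not_mem (hT : TwoCfg S A) (he : Outer A e) (g : G) : g * e * g⁻¹ ∉ A := by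
  intro ha
  obtain ⟨c, hc, h⟩ := exists_conj_le_S hT (zpowers_le.mpr he.1)
    (isPGroup_zpowers (k := 1) (by rw [pow_one, ← he.2.1, pow_orderOf_eq_one]))
  have h1 := h e (mem_zpowers e)
  have h2 : c * g⁻¹ * (g * e * g⁻¹) * (c * g⁻¹)⁻¹ = c * e * c⁻¹ := by group
  have h3 := hT.cfg.closed.2 _ ha (c * g⁻¹) (h2 ▸ h1)
  rw [h2] at h3
  refine he.2.2 ?_
  have h4 : Commute (c * e * c⁻¹) c := cent_comm hc h3
  have h5 : c * e * c⁻¹ = e := by
    have := conj_eq_iff_commute.mpr h4.symm.inv_left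
    simpa [mul_assoc] using this.symm
  rwa [h5] at h3

/-! ### Admissible subgroups -/

/-- An admissible pair for the outer involution `e`. -/
structure Adm (A : Subgroup G) (e : G) (Q : Subgroup G) (h : G) : Prop where
  two : IsPGroup 2 Q
  le : A ≤ Q
  cent : Q ≤ centralizer (A : Set G)
  norm : ∀ q ∈ Q, e * q * e ∈ Q
  fix : ∀ q ∈ Q, Commute q e → q ∈ A
  mem : h ∈ normalizer (A : Set G)
  comm : Commute h e
  pow : ∃ k : ℕ, h ^ 3 ^ k = 1
  cubA : Cubic h A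
  cubQ : Cubic h Q

theorem exists_three_part {K : Subgroup G} {g : G} (hg : g ∈ K) (hc : Cubic g A) :
    ∃ h ∈ K, (∃ k : ℕ, h ^ 3 ^ k = 1) ∧ Cubic h A := by
  obtain ⟨k, m, hm, h⟩ := Nat.exists_eq_pow_mul_and_not_dvd (orderOf_pos g).ne' 3 (by norm_num)
  exact ⟨g ^ m, K.pow_mem hg m, ⟨k, by rw [← pow_mul, mul_comm, ← h, pow_orderOf_eq_one]⟩,
    hc.pow hm⟩

theorem exists_adm (hT : TwoCfg S A) (hC : SmallCent A) (he : Outer A e) :
    ∃ Q : Subgroup G, ∃ h, Adm A e Q h := by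
  obtain ⟨g, hg, hfpf⟩ := hC.fpf e he
  obtain ⟨h, hh, hk, hcub⟩ :=
    exists_three_part hg (cubic_of_fpf hT.cfg.elem hT.card hg.1 hfpf)
  exact ⟨A, h, A_two hT, le_rfl, A_le_cent hT, fun a ha => by
    rw [← (cent_comm he.1 ha).eq, mul_assoc, Outer.sq he, mul_one]; exact ha,
    fun a ha _ => ha, hh.1, mem_centralizer_singleton_iff.mp hh.2, hk, hcub, hcub⟩

section Adm

variable {Q : Subgroup G} {h : G}

theorem Adm.notMem (hQ : Adm A e Q h) (he : Outer A e) : e ∉ Q := fun hm =>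
  he.2.2 (hQ.fix e hm (Commute.refl e))

/-- `Q` has no involution outside `A`. -/
theorem Adm.mem_of_sq (hQ : Adm A e Q h) (hT : TwoCfg S A) (hC : SmallCent A) {q : G}
    (hq : q ∈ Q) (h2 : q * q = 1) : q ∈ A := by
  by_contra hn
  have hq1 : q ≠ 1 := fun e1 => hn (e1 ▸ A.one_mem)
  have hqO : Outer A q :=
    ⟨hQ.cent hq, orderOf_eq_prime (by rw [pow_two, h2]) hq1, hn⟩
  have hy := hQ.cubQ.mem q hq
  rcases small' hT hC hqO (hQ.cent hy) (pelem hQ.two hy) (hQ.cubQ.comm hq).symm with ha | ha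
  · exact hn ((mem_normalizer_iff.mp hQ.mem q).mpr ha)
  set a := q * (h * q * h⁻¹)
  have hz := hQ.cubA.mem a ha
  have hp := hQ.cubQ.prod hq
  have hzy : h * (h * q * h⁻¹) * h⁻¹ = h * q * h⁻¹ * (h * a * h⁻¹) := by
    have h1 : h * q * h⁻¹ = q * a := by
      rw [← mul_assoc, h2, one_mul]
    calc h * (h * q * h⁻¹) * h⁻¹ = h * (q * a) * h⁻¹ := by rw [h1]
      _ = _ := by group
  rw [hzy] at hp
  have h1 : h * q * h⁻¹ = a * q := by
    rw [(cent_comm (hQ.cent hq) ha).eq, ← mul_assoc, h2, one_mul]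
  rw [show q * (h * q * h⁻¹) = a from rfl, h1] at hp
  have hp' : q * (h * a * h⁻¹) = 1 := by
    calc q * (h * a * h⁻¹) = a * a * (q * (h * a * h⁻¹)) := by rw [sq_one hT ha, one_mul]
      _ = 1 := by rw [← hp]; simp only [mul_assoc]
  exact hn (eq_inv_of_mul_eq_one_left hp' ▸ A.inv_mem hz)

/-- An element of `N(A)` acting fixed-point-freely on `A` and normalising `Q` has no fixed point
on `Q`. -/
theorem Adm.fixed_eq_one (hQ : Adm A e Q h) (hT : TwoCfg S A) (hC : SmallCent A) {h' : G}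
    (hc : Cubic h' A) {q : G} (hq : q ∈ Q) (hfix : Commute h' q) : q = 1 := by
  by_contra hq1
  obtain ⟨k, hk⟩ := pelem hQ.two hq
  obtain ⟨j, hj, hj'⟩ : ∃ j, q ^ 2 ^ j ≠ 1 ∧ (q ^ 2 ^ j) * (q ^ 2 ^ j) = 1 := by
    induction k with
    | zero => simp at hk; exact absurd hk hq1
    | succ k ih =>
      by_cases hk' : q ^ 2 ^ k = 1
      · exact ih hk'
      · exact ⟨k, hk', by rw [← pow_add, ← two_mul, ← pow_succ']; exact hk⟩
  have hA := hQ.mem_of_sq hT hC (Q.pow_mem hq _) hj'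
  exact hj (hc.fpf _ hA (conj_eq_iff_commute.mpr (hfix.pow_right _)))

end Adm

/-! ### Four classes -/

/-- Conjugacy under `Q`. -/
def Rel (Q : Subgroup G) (f f' : G) : Prop :=
  ∃ k ∈ Q, k * f * k⁻¹ = f'

theorem Rel.symm {Q : Subgroup G} {f f' : G} (h : Rel Q f f') : Rel Q f' f := by
  obtain ⟨k, hk, rfl⟩ := h
  exact ⟨k⁻¹, Q.inv_mem hk, by group⟩

theorem Rel.map {Q : Subgroup G} {f f' h : G} (hc : Cubic h Q) (hr : Rel Q f f') :
    Rel Q (h * f * h⁻¹) (h * f' * h⁻¹) := by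
  obtain ⟨k, hk, rfl⟩ := hr
  exact ⟨_, hc.mem k hk, by group⟩

/-- If a 2-element moves the class of `e` then `e` inverts `Q`. -/
theorem inverts (hT : TwoCfg S A) (hC : SmallCent A) (he : Outer A e) {Q : Subgroup G} {h : G}
    (hQ : Adm A e Q h) {x : G} (hx : x ∈ centralizer (A : Set G))
    (hxD : ¬ x ∈ Q ∧ ¬ e * x ∈ Q) (hxe : e * (x * e * x⁻¹) ∈ Q ∨ x * e * x⁻¹ ∈ Q)
    (h2 : ∀ k ∈ Q, ∃ j : ℕ, (k * x) ^ 2 ^ j = 1) : ∀ q ∈ Q, e * q * e = q⁻¹ := by
  have hee := Outer.sq he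
  have hei : e⁻¹ = e := inv_eq_of_mul_eq_one_right hee
  set f₁ := x * e * x⁻¹ with hf1
  have hsq1 : f₁ * f₁ = 1 := by
    calc f₁ * f₁ = x * (e * e) * x⁻¹ := by simp only [f₁]; group
      _ = 1 := by rw [hee]; group
  have hA1 : f₁ ∉ A := conj_not_mem hT he x
  have he1 : e * f₁ ∈ Q := hxe.resolve_right fun h1 => hA1 (hQ.mem_of_sq hT hC h1 hsq1)
  have hstep : ∀ f : G, f * f = 1 ∧ e * f ∈ Q →
      (h * f * h⁻¹) * (h * f * h⁻¹) = 1 ∧ e * (h * f * h⁻¹) ∈ Q := by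
    rintro f ⟨h1, h3⟩
    refine ⟨?_, ?_⟩
    · rw [conj_mul, h1, mul_one, mul_inv_cancel]
    · convert hQ.cubQ.mem _ h3 using 1
      rw [← conj_mul, conj_eq_iff_commute.mpr hQ.comm]
  have hhh : ∀ f : G, e * f ∈ Q → h * (h * (h * f * h⁻¹) * h⁻¹) * h⁻¹ = f := by
    intro f hf
    have h1 : Commute (h ^ 3) f := by
      have := (hQ.comm.pow_left 3).mul_right (hQ.cubQ.cube _ hf)
      rwa [← mul_assoc, hee, one_mul] at this
    calc _ = h ^ 3 * f * (h ^ 3)⁻¹ := by simp only [pow_succ, pow_zero]; group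
      _ = f := conj_eq_iff_commute.mpr h1
  have hhe : h * e * h⁻¹ = e := conj_eq_iff_commute.mpr hQ.comm
  -- `h` fixes only the class of `e`
  have hfixc : ∀ f : G, e * f ∈ Q → Rel Q f (h * f * h⁻¹) → Rel Q e f := by
    rintro f hf ⟨k, hk, hkf⟩
    obtain ⟨u, hu, huk⟩ := hQ.cubQ.surj (Q.inv_mem hk)
    have h1 : h * u * h⁻¹ = u * k⁻¹ := by rw [← huk, mul_inv_cancel_left]
    have h3 : h * (u * f * u⁻¹) * h⁻¹ = u * f * u⁻¹ := by
      calc h * (u * f * u⁻¹) * h⁻¹ = (h * u * h⁻¹) * (h * f * h⁻¹) * (h * u * h⁻¹)⁻¹ := by group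
        _ = u * f * u⁻¹ := by rw [h1, ← hkf]; group
    have hm : e * (u * f * u⁻¹) ∈ Q := by
      convert Q.mul_mem (Q.mul_mem (hQ.norm u hu) hf) (Q.inv_mem hu) using 1
      simp [mul_assoc, ← mul_assoc e e, hee]
    have h4 := hQ.cubQ.fpf _ hm (by rw [← conj_mul, hhe, h3])
    have h5 : u * f * u⁻¹ = e := by
      rw [← hei]
      exact eq_inv_of_mul_eq_one_right h4
    exact Rel.symm ⟨u, hu, h5⟩
  set f₂ := h * f₁ * h⁻¹ with hf2
  set f₃ := h * f₂ * h⁻¹ with hf3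
  have hi1 : f₁ * f₁ = 1 ∧ e * f₁ ∈ Q := ⟨hsq1, he1⟩
  have hi2 := hstep _ hi1
  have hi3 := hstep _ hi2
  have n01 : ¬ Rel Q e f₁ := by
    rintro ⟨k, hk, hkf⟩
    have hc : Commute (k⁻¹ * x) e := by
      refine conj_eq_iff_commute.mp ?_
      calc k⁻¹ * x * e * (k⁻¹ * x)⁻¹ = k⁻¹ * f₁ * k := by simp only [f₁]; group
        _ = e := by rw [← hkf]; group
    rcases small' hT hC he ((centralizer (A : Set G)).mul_mem ((centralizer (A : Set G)).inv_mem
      (hQ.cent hk)) hx) (h2 _ (Q.inv_mem hk)) hc with h1 | h1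
    · refine hxD.1 ?_
      have := Q.mul_mem hk (hQ.le h1)
      rwa [mul_inv_cancel_left] at this
    · refine hxD.2 ?_
      have := Q.mul_mem (hQ.norm k hk) (hQ.le h1)
      simpa [mul_assoc, ← mul_assoc e e, hee] using this
  have down : ∀ f : G, e * f ∈ Q → Rel Q e (h * f * h⁻¹) → Rel Q e f := by
    intro f hf hr
    have := (hr.map hQ.cubQ).map hQ.cubQ
    rwa [hhe, hhe, hhh f hf] at this
  have n02 : ¬ Rel Q e f₂ := fun hr => n01 (down _ he1 hr)
  have n03 : ¬ Rel Q e f₃ := fun hr => n02 (down _ hi2.2 hr)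
  have n12 : ¬ Rel Q f₁ f₂ := fun hr => n01 (hfixc _ he1 hr)
  have n23 : ¬ Rel Q f₂ f₃ := fun hr => n02 (hfixc _ hi2.2 hr)
  have n13 : ¬ Rel Q f₁ f₃ := fun hr => by
    have := hr.map hQ.cubQ
    rw [show h * f₃ * h⁻¹ = f₁ from hhh f₁ he1] at this
    exact n12 this.symm
  let F : Fin 4 → G := ![e, f₁, f₂, f₃]
  have hF : ∀ i, F i * F i = 1 ∧ e * F i ∈ Q := by
    intro i
    fin_cases i
    exacts [⟨hee, hee.symm ▸ Q.one_mem⟩, hi1, hi2, hi3]
  have hne : ∀ i j, Rel Q (F i) (F j) → i = j := by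
    intro i j hr
    fin_cases i <;> fin_cases j <;> first
      | rfl
      | exact absurd hr n01 | exact absurd hr.symm n01 | exact absurd hr n02
      | exact absurd hr.symm n02 | exact absurd hr n03 | exact absurd hr.symm n03
      | exact absurd hr n12 | exact absurd hr.symm n12 | exact absurd hr n13
      | exact absurd hr.symm n13 | exact absurd hr n23 | exact absurd hr.symm n23
  have hconj : ∀ u ∈ Q, ∀ i, e * (u * F i * u⁻¹) ∈ Q := by
    intro u hu i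
    convert Q.mul_mem (Q.mul_mem (hQ.norm u hu) (hF i).2) (Q.inv_mem hu) using 1
    simp [mul_assoc, ← mul_assoc e e, hee]
  let Φ : Fin 4 × (↥Q ⧸ A.subgroupOf Q) → ↥Q := fun p =>
    ⟨e * ((p.2.out : G) * F p.1 * (p.2.out : G)⁻¹), hconj _ p.2.out.2 p.1⟩
  have hinj : Function.Injective Φ := by
    rintro ⟨i, c⟩ ⟨j, d⟩ heq
    have h1 : (c.out : G) * F i * (c.out : G)⁻¹ = (d.out : G) * F j * (d.out : G)⁻¹ :=
      mul_left_cancel (congrArg Subtype.val heq)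
    have hk : (d.out : G)⁻¹ * c.out ∈ Q := Q.mul_mem (Q.inv_mem d.out.2) c.out.2
    have h3 : ((d.out : G)⁻¹ * c.out) * F i * ((d.out : G)⁻¹ * c.out)⁻¹ = F j := by
      calc _ = (d.out : G)⁻¹ * ((c.out : G) * F i * (c.out : G)⁻¹) * d.out := by group
        _ = F j := by rw [h1]; group
    obtain rfl : i = j := hne i j ⟨_, hk, h3⟩
    have hFQ : F i ∉ Q := fun h4 => hQ.notMem he ((Q.mul_mem_cancel_right h4).mp (hF i).2)
    have hFO : Outer A (F i) := by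
      refine ⟨?_, orderOf_eq_prime (by rw [pow_two, (hF i).1]) fun h4 => hFQ (h4 ▸ Q.one_mem),
        fun h4 => hFQ (hQ.le h4)⟩
      have := (centralizer (A : Set G)).mul_mem he.1 (hQ.cent (hF i).2)
      rwa [← mul_assoc, hee, one_mul] at this
    have h5 : (d.out : G)⁻¹ * c.out ∈ A := by
      rcases small' hT hC hFO (hQ.cent hk) (pelem hQ.two hk) (conj_eq_iff_commute.mp h3) with
        h6 | h6
      · exact h6
      · exact absurd ((Q.mul_mem_cancel_right hk).mp (hQ.le h6)) hFQ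
    refine Prod.ext rfl ?_
    rw [← QuotientGroup.out_eq' c, ← QuotientGroup.out_eq' d]
    exact (QuotientGroup.eq.mpr (by simpa [mem_subgroupOf] using h5)).symm
  have hcard : Nat.card ↥Q ≤ Nat.card (Fin 4 × (↥Q ⧸ A.subgroupOf Q)) := by
    rw [Nat.card_prod, Nat.card_fin, card_eq_card_quotient_mul_card_subgroup (A.subgroupOf Q),
      Nat.card_congr (subgroupOfEquivOfLe hQ.le).toEquiv, hT.card, mul_comm]
  intro q hq
  obtain ⟨⟨i, c⟩, hc⟩ := (hinj.bijective_of_nat_card_le hcard).2 ⟨q, hq⟩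
  set f := (c.out : G) * F i * (c.out : G)⁻¹ with hf
  have hqf : q = e * f := (congrArg Subtype.val hc).symm
  have hff : f * f = 1 := by rw [hf, conj_mul, (hF i).1, mul_one, mul_inv_cancel]
  rw [hqf, ← mul_assoc e e, hee, one_mul, mul_inv_rev, inv_eq_of_mul_eq_one_right hff, hei]

/-! ### A larger admissible subgroup -/

theorem larger (hT : TwoCfg S A) (hC : SmallCent A) (he : Outer A e) {Q : Subgroup G} {h : G}
    (hQ : Adm A e Q h) {x : G} (hx : x ∈ centralizer (A : Set G))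
    (hxN : x ∈ normalizer (ext2 Q e (Outer.sq he) hQ.norm : Set G))
    (hxD : x ∉ ext2 Q e (Outer.sq he) hQ.norm)
    (h2 : ∀ k ∈ Q, ∃ j : ℕ, (k * x) ^ 2 ^ j = 1) :
    ∃ Q' : Subgroup G, ∃ h', Adm A e Q' h' ∧ Nat.card Q < Nat.card Q' := by
  classical
  haveI : Fact (Nat.Prime 2) := ⟨Nat.prime_two⟩
  have hee := Outer.sq he
  have hei : e⁻¹ = e := inv_eq_of_mul_eq_one_right hee
  set D := ext2 Q e (Outer.sq he) hQ.norm with hD
  have heD : e ∈ D := self_mem_ext2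
  have hQD : Q ≤ D := le_ext2
  have hinv : ∀ q ∈ Q, e * q * e = q⁻¹ :=
    inverts hT hC he hQ hx ⟨fun hm => hxD (Or.inl hm), fun hm => hxD (Or.inr hm)⟩
      (Or.symm (conj_mem_of_mem_normalizer hxN heD)) h2
  have hab : ∀ p ∈ Q, ∀ q ∈ Q, Commute p q := by
    intro p hp q hq
    have h1 : p⁻¹ * q⁻¹ = (p * q)⁻¹ := by
      rw [← hinv p hp, ← hinv q hq, ← hinv _ (Q.mul_mem hp hq)]
      simp [mul_assoc, ← mul_assoc e e, hee]
    have := congrArg (·⁻¹) h1
    show p * q = q * p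
    simpa using this.symm
  -- the map onto `A`
  have hex : ∃ N : ℕ, ∀ q ∈ Q, q ^ 2 ^ N = 1 := by
    obtain ⟨N, hN⟩ := IsPGroup.iff_card.mp hQ.two
    exact ⟨N, fun q hq => by
      rw [← hN]; exact congrArg Subtype.val (pow_card_eq_one' (x := (⟨q, hq⟩ : ↥Q)))⟩
  obtain ⟨n, hn, hn1⟩ : ∃ n, (∀ q ∈ Q, q ^ 2 ^ (n + 1) = 1) ∧ ∃ q ∈ Q, q ^ 2 ^ n ≠ 1 := by
    rcases Nat.eq_zero_or_pos (Nat.find hex) with h0 | h0
    · exfalso
      have hs := Nat.find_spec hex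
      rw [h0] at hs
      have hbot : A = ⊥ := (eq_bot_iff_forall A).mpr fun a ha => by simpa using hs a (hQ.le ha)
      have := hT.card
      rw [hbot, card_bot] at this
      omega
    · obtain ⟨n, hn⟩ := Nat.exists_eq_succ_of_ne_zero h0.ne'
      refine ⟨n, fun q hq => ?_, ?_⟩
      · have := Nat.find_spec hex q hq
        rwa [hn] at this
      · by_contra hne
        push Not at hne
        exact Nat.find_min hex (by omega : n < Nat.find hex) hne
  have htA : ∀ q ∈ Q, q ^ 2 ^ n ∈ A := fun q hq =>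
    hQ.mem_of_sq hT hC (Q.pow_mem hq _) (by rw [← pow_add, ← two_mul, ← pow_succ']; exact hn q hq)
  have hker : ∀ q ∈ Q, q ^ 2 ^ n = 1 → ∃ k ∈ Q, k * k = q := by
    let s : ↥Q →* ↥Q := MonoidHom.mk' (fun q => q * q) fun p q => by
      have : Commute p q := Subtype.ext (hab p p.2 q q.2)
      exact this.symm.mul_mul_mul_comm p q
    let t : ↥Q →* G := MonoidHom.mk' (fun q => (q : G) ^ 2 ^ n) fun p q =>
      (hab p p.2 q q.2).mul_pow _
    have hle : s.range ≤ t.ker := by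
      rintro _ ⟨q, rfl⟩
      show ((q : G) * q) ^ 2 ^ n = 1
      rw [← pow_two, ← pow_mul, ← pow_succ']
      exact hn q q.2
    have htr : t.range = A := by
      refine le_antisymm ?_ fun a ha => ?_
      · rintro _ ⟨q, rfl⟩
        exact htA q q.2
      obtain ⟨q, hq, hq1⟩ := hn1
      have hm1 : q ^ 2 ^ n ∈ t.range := ⟨⟨q, hq⟩, rfl⟩
      have hm2 : (h * q * h⁻¹) ^ 2 ^ n ∈ t.range := ⟨⟨_, hQ.cubQ.mem q hq⟩, rfl⟩
      rw [conj_pow] at hm2
      rcases four_cases hT.cfg.elem hT.card (htA q hq) (hQ.cubA.mem _ (htA q hq)) hq1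
        (fun e1 => hq1 (conj_eq_one_iff.mp e1))
        (fun e1 => hq1 (hQ.cubA.fpf _ (htA q hq) e1.symm)) a ha with rfl | rfl | rfl | rfl
      exacts [t.range.one_mem, hm1, hm2, t.range.mul_mem hm1 hm2]
    have h1 : Nat.card t.ker * 4 = Nat.card ↥Q := by
      have := card_mul_index t.ker
      rwa [index_ker, htr, hT.card] at this
    have h3 : Nat.card s.ker * Nat.card s.range = Nat.card ↥Q := by
      rw [← index_ker]; exact card_mul_index _
    have h4 : s.ker = A.subgroupOf Q := by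
      ext q
      rw [MonoidHom.mem_ker, mem_subgroupOf]
      exact ⟨fun hq => hQ.mem_of_sq hT hC q.2 (congrArg Subtype.val hq),
        fun hq => Subtype.ext (sq_one hT hq)⟩
    rw [h4, Nat.card_congr (subgroupOfEquivOfLe hQ.le).toEquiv, hT.card] at h3
    have heq : s.range = t.ker := eq_of_le_of_card_ge hle (by omega)
    intro q hq hq1
    have hm : (⟨q, hq⟩ : ↥Q) ∈ t.ker := hq1
    rw [← heq] at hm
    obtain ⟨k, hk⟩ := hm
    exact ⟨k, k.2, congrArg Subtype.val hk⟩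
  -- the group `M`
  set M : Subgroup G := centralizer (A : Set G) ⊓ normalizer (D : Set G) with hM
  have hDC : D ≤ centralizer (A : Set G) := ext2_le hQ.cent he.1
  have hD2 : IsPGroup 2 D := isPGroup_ext2 hQ.two
  have hDM : D ≤ M := le_inf hDC le_normalizer
  have heout : ∀ m ∈ M, e * (m * e * m⁻¹) ∈ Q := by
    intro m hm
    refine (conj_mem_of_mem_normalizer hm.2 heD).resolve_left fun hq => conj_not_mem hT he m
      (hQ.mem_of_sq hT hC hq ?_)
    rw [conj_mul, hee, mul_one, mul_inv_cancel]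
  have hMQ : ∀ m ∈ M, ∀ q ∈ Q, m * q * m⁻¹ ∈ Q := by
    intro m hm q hq
    refine (conj_mem_of_mem_normalizer hm.2 (hQD hq)).elim id fun hz => ?_
    have h1 : (m * q * m⁻¹) * (m * q * m⁻¹) = 1 := by
      calc _ = (e * (e * (m * q * m⁻¹)) * e) * (e * (m * q * m⁻¹)) := by
            simp [mul_assoc, ← mul_assoc e e, hee]
        _ = 1 := by rw [hinv _ hz, inv_mul_cancel]
    have hqA : q ∈ A := hQ.mem_of_sq hT hC hq (conj_eq_one_iff.mp (by rw [← conj_mul]; exact h1))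
    rw [conj_eq_iff_commute.mpr (cent_comm hm.1 hqA).symm]
    exact hq
  let θ : ↥M →* G := MonoidHom.mk' (fun m => (e * ((m : G) * e * (m : G)⁻¹)) ^ 2 ^ n)
    fun m m' => by
      have h1 : e * ((m * m' : ↥M) * e * ((m * m' : ↥M) : G)⁻¹) =
          (e * ((m : G) * e * (m : G)⁻¹)) *
            ((m : G) * (e * ((m' : G) * e * (m' : G)⁻¹)) * (m : G)⁻¹) := by
        simp [mul_assoc, ← mul_assoc e e, hee]
      show (e * ((m * m' : ↥M) * e * ((m * m' : ↥M) : G)⁻¹)) ^ 2 ^ n = _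
      rw [h1, (hab _ (heout m m.2) _ (hMQ m m.2 _ (heout m' m'.2))).mul_pow, conj_pow,
        conj_eq_iff_commute.mpr (cent_comm m.2.1 (htA _ (heout m' m'.2))).symm]
  have θA : ∀ m : ↥M, θ m ∈ A := fun m => htA _ (heout m m.2)
  have θker : ∀ m : ↥M, θ m = 1 → ∃ k ∈ Q, Commute (k * m) e := by
    intro m hm
    obtain ⟨k, hk, hkk⟩ := hker _ (heout m m.2) hm
    refine ⟨k, hk, conj_eq_iff_commute.mp ?_⟩
    have h1 : (m : G) * e * (m : G)⁻¹ = e * (k * k) := by rw [hkk, ← mul_assoc, hee, one_mul]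
    calc k * m * e * (k * m)⁻¹ = k * ((m : G) * e * (m : G)⁻¹) * k⁻¹ := by group
      _ = k * (e * (k * k)) * k⁻¹ := by rw [h1]
      _ = e * (e * k * e) * k := by simp [mul_assoc, ← mul_assoc e e, hee]
      _ = e := by rw [hinv k hk, mul_assoc, inv_mul_cancel, mul_one]
  have θQ : ∀ m : ↥M, (m : G) ∈ Q → θ m = 1 := by
    intro m hm
    show (e * ((m : G) * e * (m : G)⁻¹)) ^ 2 ^ n = 1
    rw [← mul_assoc, ← mul_assoc, hinv _ hm, ← pow_two, ← pow_mul, ← pow_succ']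
    exact hn _ (Q.inv_mem hm)
  have θe : θ ⟨e, hDM heD⟩ = 1 := by
    show (e * (e * e * e⁻¹)) ^ 2 ^ n = 1
    rw [hei, hee, one_mul, hee, one_pow]
  have θD : ∀ m : ↥M, (m : G) ∈ D → θ m = 1 := by
    intro m hm
    rcases hm with hm | hm
    · exact θQ m hm
    · have := θQ (⟨e, hDM heD⟩ * m) hm
      rwa [map_mul, θe, one_mul] at this
  have θconj : ∀ g : G, g ∈ normalizer (A : Set G) → g ∈ normalizer (D : Set G) → Commute g e →
      ∀ m m' : ↥M, (m' : G) = g * m * g⁻¹ → θ m' = g * θ m * g⁻¹ := by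
    intro g _ _ hge m m' hm'
    show (e * ((m' : G) * e * (m' : G)⁻¹)) ^ 2 ^ n = g * (e * ((m : G) * e * (m : G)⁻¹)) ^ 2 ^ n * g⁻¹
    rw [← conj_pow]
    congr 1
    have h1 : g⁻¹ * e * g = e := by rw [mul_assoc, ← hge.eq, inv_mul_cancel_left]
    calc e * ((m' : G) * e * (m' : G)⁻¹)
        = e * (g * m * (g⁻¹ * e * g) * (m : G)⁻¹ * g⁻¹) := by rw [hm']; group
      _ = (g * e * g⁻¹) * (g * m * e * (m : G)⁻¹ * g⁻¹) := by
          rw [h1, conj_eq_iff_commute.mpr hge]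
      _ = g * (e * ((m : G) * e * (m : G)⁻¹)) * g⁻¹ := by group
  -- a Sylow 2-subgroup of `M` over `D`
  obtain ⟨P, hP⟩ := (hD2.of_equiv (subgroupOfEquivOfLe hDM).symm).exists_le_sylow
  set R : Subgroup G := (P : Subgroup ↥M).map M.subtype with hR
  have hRM : R ≤ M := map_subtype_le _
  have hR2 : IsPGroup 2 R := P.isPGroup'.map _
  have hDR : D ≤ R := fun d hd => ⟨⟨d, hDM hd⟩, hP hd, rfl⟩
  have hQR : Q ≤ R := hQD.trans hDR
  have heR : e ∈ R := hDR heD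
  have hRk : ∀ (r : G) (hr : r ∈ R), θ ⟨r, hRM hr⟩ = 1 → r ∈ D := by
    intro r hr h1
    obtain ⟨k, hk, hc⟩ := θker _ h1
    have hkD : k ∈ D := hQD hk
    rcases small' hT hC he (hRM (R.mul_mem (hQR hk) hr)).1 (pelem hR2 (R.mul_mem (hQR hk) hr)) hc
      with h3 | h3
    · exact (D.mul_mem_cancel_left hkD).mp (hQD (hQ.le h3))
    · exact (D.mul_mem_cancel_left hkD).mp ((D.mul_mem_cancel_left heD).mp (hQD (hQ.le h3)))
  have hsurj : ∀ m : ↥M, ∃ r : G, ∃ hr : r ∈ R, θ ⟨r, hRM hr⟩ = θ m := by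
    intro m
    obtain ⟨a, o, ho, hao⟩ :=
      Nat.exists_eq_pow_mul_and_not_dvd (orderOf_pos m).ne' 2 (by norm_num)
    have h2' : ((m ^ o : ↥M) : G) ^ 2 ^ a = 1 := by
      rw [← coe_pow, ← pow_mul, mul_comm, ← hao, pow_orderOf_eq_one, coe_one]
    obtain ⟨c, hc, hcR⟩ :=
      exists_conj_le P (zpowers_le.mpr (m ^ o).2) (isPGroup_zpowers h2')
    refine ⟨_, hcR _ (mem_zpowers _), ?_⟩
    have h3 : θ (m ^ o) = θ m := by
      rw [map_pow]
      obtain ⟨i, hi⟩ := Nat.odd_iff.mpr (Nat.two_dvd_ne_zero.mp ho)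
      rw [hi, pow_succ, pow_mul, hT.cfg.elem.2 _ (θA m), one_pow, one_mul]
    have h4 : (⟨c * ((m ^ o : ↥M) : G) * c⁻¹, hRM (hcR _ (mem_zpowers _))⟩ : ↥M) =
        ⟨c, hc⟩ * m ^ o * ⟨c, hc⟩⁻¹ := rfl
    rw [h4, map_mul, map_mul, map_inv, h3,
      ← ((cent_comm (A_le_cent hT (θA ⟨c, hc⟩)) (θA m))).eq, mul_assoc, mul_inv_cancel, mul_one]
  -- the new element of order a power of 3
  have hhN : ∀ d ∈ D, h * d * h⁻¹ ∈ D := by
    rintro d (hd | hd)
    · exact Or.inl (hQ.cubQ.mem d hd)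
    · right
      convert hQ.cubQ.mem _ hd using 1
      rw [← conj_mul, conj_eq_iff_commute.mpr hQ.comm]
  have hhD : h ∈ normalizer (D : Set G) := mem_normalizer_of_conj_mem hhN
  have hhM : ∀ m ∈ M, h * m * h⁻¹ ∈ M := fun m hm =>
    ⟨conj_cent hQ.mem hm.1, (normalizer (D : Set G)).mul_mem
      ((normalizer (D : Set G)).mul_mem hhD hm.2) ((normalizer (D : Set G)).inv_mem hhD)⟩
  obtain ⟨c, hc, hcR⟩ := exists_conj_le P (R := R.map (MulAut.conj h).toMonoidHom)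
    (by rintro _ ⟨r, hr, rfl⟩; exact hhM r (hRM hr)) (hR2.map _)
  obtain ⟨r₀, hr₀, hθ₀⟩ := hsurj ⟨c, hc⟩
  have h1 : θ (⟨r₀, hRM hr₀⟩ * ⟨c, hc⟩) = 1 := by rw [map_mul, hθ₀, sq_one hT (θA _)]
  obtain ⟨k₀, hk₀, hk₀c⟩ := θker _ h1
  set m' : G := k₀ * (r₀ * c)
  have hm' : m' ∈ M := M.mul_mem (hDM (hQD hk₀)) (M.mul_mem (hRM hr₀) hc)
  set g := m' * h with hg
  have hgA : g ∈ normalizer (A : Set G) := by
    refine (normalizer (A : Set G)).mul_mem (mem_normalizer_of_conj_mem fun a ha => ?_) hQ.mem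
    rw [conj_eq_iff_commute.mpr (cent_comm hm'.1 ha).symm]
    exact ha
  let K : Subgroup G := normalizer (A : Set G) ⊓ centralizer ({e} : Set G) ⊓
    normalizer (R : Set G) ⊓ normalizer (D : Set G) ⊓ normalizer (Q : Set G)
  have hgK : g ∈ K := by
    refine ⟨⟨⟨⟨hgA, mem_centralizer_singleton_iff.mpr (hk₀c.mul_left hQ.comm).eq⟩, ?_⟩,
      (normalizer (D : Set G)).mul_mem hm'.2 hhD⟩, ?_⟩
    · refine mem_normalizer_of_conj_mem fun r hr => ?_
      have h3 := hcR (h * r * h⁻¹) ⟨r, hr, rfl⟩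
      have h5 : k₀ * r₀ ∈ R := R.mul_mem (hQR hk₀) hr₀
      convert R.mul_mem (R.mul_mem h5 h3) (R.inv_mem h5) using 1
      simp only [g, m']; group
    · refine mem_normalizer_of_conj_mem fun q hq => ?_
      convert hMQ m' hm' _ (hQ.cubQ.mem q hq) using 1
      simp only [g]; group
  have hgcub : Cubic g A := by
    refine cubic_of_fpf hT.cfg.elem hT.card hgA fun a ha ha1 e1 => ha1 (hQ.cubA.fpf a ha ?_)
    have h3 : g * a * g⁻¹ = h * a * h⁻¹ := by
      have := conj_eq_iff_commute.mpr (cent_comm hm'.1 (hQ.cubA.mem a ha)).symm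
      rw [← this]; simp only [g]; group
    rw [← h3, e1]
  obtain ⟨h₁, hK, ⟨k3, hk3⟩, hcubA⟩ := exists_three_part hgK hgcub
  obtain ⟨⟨⟨⟨hA₁, he₁'⟩, hR₁⟩, hD₁⟩, hQ₁⟩ := hK
  have he₁ : Commute h₁ e := mem_centralizer_singleton_iff.mp he₁'
  set g₃ := h₁ ^ 3 with hg3
  have hg3n : g₃ ^ 3 ^ k3 = 1 := by rw [hg3, ← pow_mul, mul_comm, pow_mul, hk3, one_pow]
  have hodd : Odd (3 ^ k3) := Odd.pow (by decide)
  have hg3e : Commute g₃ e := he₁.pow_left 3
  have hg3A : g₃ ∈ normalizer (A : Set G) := (normalizer (A : Set G)).pow_mem hA₁ 3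
  have hg3D : g₃ ∈ normalizer (D : Set G) := (normalizer (D : Set G)).pow_mem hD₁ 3
  have hg3Q : ∀ q ∈ Q, Commute g₃ q := by
    intro q hq
    obtain ⟨j, hj⟩ := pelem hQ.two hq
    induction j generalizing q with
    | zero => simp at hj; subst hj; exact Commute.one_right _
    | succ j ih =>
      have hqq : Commute g₃ (q * q) := ih _ (Q.mul_mem hq hq)
        (by rwa [← pow_two, ← pow_mul, ← pow_succ'])
      have hy : g₃ * q * g₃⁻¹ ∈ Q :=
        conj_mem_of_mem_normalizer ((normalizer (Q : Set G)).pow_mem hQ₁ 3) hq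
      set d := q⁻¹ * (g₃ * q * g₃⁻¹) with hd
      have hdd : d * d = 1 := by
        rw [(hab _ (Q.inv_mem hq) _ hy).symm.mul_mul_mul_comm, conj_mul,
          conj_eq_iff_commute.mpr hqq, ← mul_inv_rev, inv_mul_cancel]
      have hdA : d ∈ A := hQ.mem_of_sq hT hC (Q.mul_mem (Q.inv_mem hq) hy) hdd
      have hd1 : d = 1 := stab (r := q) (j := 1) hodd hg3n (by rw [pow_one, pow_two, hdd])
        (by rw [hd, mul_inv_cancel_left]) (hcubA.cube d hdA)
      exact conj_eq_iff_commute.mp (inv_mul_eq_one.mp hd1).symm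
  have hg3R : ∀ r ∈ R, Commute g₃ r := by
    intro r hr
    have hy : g₃ * r * g₃⁻¹ ∈ R :=
      conj_mem_of_mem_normalizer ((normalizer (R : Set G)).pow_mem hR₁ 3) hr
    have hθ : θ ⟨_, hRM hy⟩ = θ ⟨r, hRM hr⟩ := by
      rw [θconj g₃ hg3A hg3D hg3e ⟨r, hRM hr⟩ ⟨_, hRM hy⟩ rfl]
      exact conj_eq_iff_commute.mpr (hcubA.cube _ (θA _))
    set d := r⁻¹ * (g₃ * r * g₃⁻¹) with hd
    have hdR : d ∈ R := R.mul_mem (R.inv_mem hr) hy
    have hdD : d ∈ D := hRk d hdR (by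
      rw [show (⟨d, hRM hdR⟩ : ↥M) = ⟨r, hRM hr⟩⁻¹ * ⟨_, hRM hy⟩ from rfl, map_mul, map_inv, hθ,
        inv_mul_cancel])
    obtain ⟨j, hj⟩ := pelem hR2 hdR
    have hdc : Commute g₃ d := by
      rcases hdD with h3 | h3
      · exact hg3Q d h3
      · have := hg3e.mul_right (hg3Q _ h3)
        rwa [← mul_assoc, hee, one_mul] at this
    have hd1 : d = 1 := stab (r := r) hodd hg3n hj (by rw [hd, mul_inv_cancel_left]) hdc
    exact conj_eq_iff_commute.mp (inv_mul_eq_one.mp hd1).symm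
  -- the quotient `R / Q`
  have hRQ : ∀ r ∈ R, r * r ∈ Q := by
    intro r hr
    by_cases hrD : r ∈ D
    · rcases hrD with h3 | h3
      · exact Q.mul_mem h3 h3
      · convert Q.mul_mem (hQ.norm _ h3) h3 using 1
        simp [mul_assoc, ← mul_assoc e e, hee]
    have hsD : r * r ∈ D := hRk _ (R.mul_mem hr hr) (by
      rw [show (⟨r * r, hRM (R.mul_mem hr hr)⟩ : ↥M) = ⟨r, hRM hr⟩ * ⟨r, hRM hr⟩ from rfl,
        map_mul, sq_one hT (θA _)])
    refine hsD.resolve_right fun hz => hrD ?_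
    have hf2 : (r * r) * (r * r) = 1 := by
      calc _ = (e * (e * (r * r)) * e) * (e * (r * r)) := by
            simp [mul_assoc, ← mul_assoc e e, hee]
        _ = 1 := by rw [hinv _ hz, inv_mul_cancel]
    have hfQ : r * r ∉ Q := fun h3 => hQ.notMem he ((Q.mul_mem_cancel_right h3).mp hz)
    have hfO : Outer A (r * r) := ⟨hDC hsD,
      orderOf_eq_prime (by rw [pow_two, hf2]) fun h3 => hfQ (h3 ▸ Q.one_mem),
      fun h3 => hfQ (hQ.le h3)⟩
    rcases small' hT hC hfO (hRM hr).1 (pelem hR2 hr)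
      ((Commute.refl r).mul_right (Commute.refl r)) with h3 | h3
    · exact hQD (hQ.le h3)
    · exact (D.mul_mem_cancel_left hsD).mp (hQD (hQ.le h3))
  let Qs := Q.subgroupOf R
  haveI : Qs.Normal := ⟨fun q hq r => mem_subgroupOf.mpr (hMQ r (hRM r.2) q (mem_subgroupOf.mp hq))⟩
  let π := QuotientGroup.mk' Qs
  have hπ : ∀ r : ↥R, π r = 1 ↔ (r : G) ∈ Q := fun r =>
    (QuotientGroup.eq_one_iff r).trans mem_subgroupOf
  have hsq : ∀ a : ↥R ⧸ Qs, a * a = 1 := by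
    intro a
    obtain ⟨r, rfl⟩ := QuotientGroup.mk'_surjective Qs a
    rw [← map_mul]
    exact (hπ _).mpr (hRQ r r.2)
  have hqinv : ∀ a : ↥R ⧸ Qs, a⁻¹ = a := fun a => inv_eq_of_mul_eq_one_right (hsq a)
  have hqc : ∀ a b : ↥R ⧸ Qs, a * b = b * a := fun a b => by
    rw [← hqinv (a * b), mul_inv_rev, hqinv, hqinv]
  letI : CommGroup (↥R ⧸ Qs) := { (inferInstance : Group (↥R ⧸ Qs)) with mul_comm := hqc }
  let φ : ↥R →* ↥R := MonoidHom.mk'
    (fun r => ⟨h₁ * r * h₁⁻¹, conj_mem_of_mem_normalizer hR₁ r.2⟩)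
    fun r s => Subtype.ext (by simp [mul_assoc])
  let N : ↥R →* ↥R ⧸ Qs := MonoidHom.mk' (fun r => π r * π (φ r) * π (φ (φ r))) fun r s => by
    simp only [map_mul]
    rw [mul_mul_mul_comm (π r) (π s), mul_mul_mul_comm (π r * π (φ r))]
  have hφ3 : ∀ r : ↥R, φ (φ (φ r)) = r := fun r => Subtype.ext (by
    show h₁ * (h₁ * (h₁ * r * h₁⁻¹) * h₁⁻¹) * h₁⁻¹ = r
    calc _ = g₃ * r * g₃⁻¹ := by simp only [g₃, pow_succ, pow_zero]; group
      _ = r := conj_eq_iff_commute.mpr (hg3R r r.2))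
  have hφQ : ∀ r : ↥R, (r : G) ∈ Q → (φ r : G) ∈ Q := fun r hr =>
    conj_mem_of_mem_normalizer hQ₁ hr
  have hφe : φ ⟨e, heR⟩ = ⟨e, heR⟩ := Subtype.ext (conj_eq_iff_commute.mpr he₁)
  have hNe : N ⟨e, heR⟩ = π ⟨e, heR⟩ := by
    show π _ * π (φ _) * π (φ (φ _)) = _
    rw [hφe, hφe, hsq, one_mul]
  have hπe : π ⟨e, heR⟩ ≠ 1 := fun h3 => hQ.notMem he ((hπ _).mp h3)
  have hNQ : ∀ r : ↥R, (r : G) ∈ Q → N r = 1 := by
    intro r hr
    show π r * π (φ r) * π (φ (φ r)) = 1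
    rw [(hπ r).mpr hr, (hπ _).mpr (hφQ r hr), (hπ _).mpr (hφQ _ (hφQ r hr)), one_mul, one_mul]
  set Q' : Subgroup G := N.ker.map R.subtype with hQ'
  have hQQ' : Q ≤ Q' := fun q hq => ⟨⟨q, hQR hq⟩, hNQ _ hq, rfl⟩
  have hQ'R : Q' ≤ R := map_subtype_le _
  have hQ'mem : ∀ y ∈ Q', ∃ r : ↥R, N r = 1 ∧ (r : G) = y := fun y hy => by
    obtain ⟨r, hr, rfl⟩ := hy
    exact ⟨r, hr, rfl⟩
  have hcubQ' : Cubic h₁ Q' := by
    refine ⟨fun y hy => ?_, fun y hy e1 => ?_, fun y hy => hg3R y (hQ'R hy)⟩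
    · obtain ⟨r, hr, rfl⟩ := hQ'mem y hy
      refine ⟨φ r, ?_, rfl⟩
      show π (φ r) * π (φ (φ r)) * π (φ (φ (φ r))) = 1
      rw [hφ3, mul_comm, ← mul_assoc]
      exact hr
    · obtain ⟨r, hr, rfl⟩ := hQ'mem y hy
      have hf : φ r = r := Subtype.ext e1
      change π r * π (φ r) * π (φ (φ r)) = 1 at hr
      rw [hf, hf, hsq, one_mul] at hr
      exact hQ.fixed_eq_one hT hC hcubA ((hπ r).mp hr) (conj_eq_iff_commute.mp e1)
  refine ⟨Q', h₁, ⟨hR2.to_le hQ'R, hQ.le.trans hQQ', fun y hy => (hRM (hQ'R hy)).1, ?_, ?_,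
    hA₁, he₁, ⟨k3, hk3⟩, hcubA, hcubQ'⟩, ?_⟩
  · intro y hy
    obtain ⟨r, hr, rfl⟩ := hQ'mem y hy
    refine ⟨⟨e, heR⟩ * r * ⟨e, heR⟩, ?_, rfl⟩
    show N _ = 1
    rw [map_mul, map_mul, hr, mul_one, hsq]
  · intro y hy hc
    obtain ⟨r, hr, rfl⟩ := hQ'mem y hy
    refine (small' hT hC he (hRM r.2).1 (pelem hR2 r.2) hc).resolve_right fun h3 => ?_
    have h4 : N (⟨e, heR⟩ * r) = 1 := hNQ _ (hQ.le h3)
    rw [map_mul, hr, mul_one, hNe] at h4
    exact hπe h4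
  -- it is larger
  have hxM : x ∈ M := ⟨hx, hxN⟩
  have hθx : θ ⟨x, hxM⟩ ≠ 1 := by
    intro h3
    obtain ⟨k, hk, hc3⟩ := θker _ h3
    rcases small' hT hC he ((centralizer (A : Set G)).mul_mem (hQ.cent hk) hx) (h2 k hk) hc3 with
      h4 | h4
    · exact hxD ((D.mul_mem_cancel_left (hQD hk)).mp (hQD (hQ.le h4)))
    · exact hxD ((D.mul_mem_cancel_left (hQD hk)).mp
        ((D.mul_mem_cancel_left heD).mp (hQD (hQ.le h4))))
  obtain ⟨r, hr, hθr⟩ := hsurj ⟨x, hxM⟩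
  have hrQ : ∀ s : ↥R, θ ⟨s, hRM s.2⟩ = θ ⟨r, hRM hr⟩ → (s : G) ∉ Q := fun s hs hsQ =>
    hθx (by rw [← hθr, ← hs]; exact θD _ (hQD hsQ))
  obtain ⟨s, hs, hs1⟩ : ∃ s : ↥R, θ ⟨s, hRM s.2⟩ = θ ⟨r, hRM hr⟩ ∧ N s = 1 := by
    let a : ↥R := ⟨r, hr⟩
    have hv : ∀ b : ↥R, θ ⟨φ b, hRM (φ b).2⟩ = h₁ * θ ⟨b, hRM b.2⟩ * h₁⁻¹ := fun b =>
      θconj h₁ hA₁ hD₁ he₁ _ _ rfl
    have hz : θ ⟨((a * φ a * φ (φ a) : ↥R) : G), hRM (a * φ a * φ (φ a) : ↥R).2⟩ = 1 := by
      rw [show (⟨((a * φ a * φ (φ a) : ↥R) : G), hRM (a * φ a * φ (φ a) : ↥R).2⟩ : ↥M) =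
        ⟨a, hRM a.2⟩ * ⟨φ a, hRM (φ a).2⟩ * ⟨φ (φ a), hRM (φ (φ a)).2⟩ from rfl, map_mul, map_mul,
        hv (φ a), hv a]
      exact hcubA.prod (θA _)
    have hN : N a = π (a * φ a * φ (φ a)) := by simp only [map_mul]; rfl
    rcases hRk _ (a * φ a * φ (φ a) : ↥R).2 hz with h3 | h3
    · exact ⟨a, rfl, hN.trans ((hπ _).mpr h3)⟩
    · have h4 : π ⟨e, heR⟩ * N a = 1 := by rw [hN, ← map_mul]; exact (hπ _).mpr h3
      refine ⟨⟨e, heR⟩ * a, ?_, by rw [map_mul, hNe, h4]⟩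
      rw [show (⟨((⟨e, heR⟩ * a : ↥R) : G), hRM (⟨e, heR⟩ * a : ↥R).2⟩ : ↥M) =
        ⟨e, hDM heD⟩ * ⟨a, hRM a.2⟩ from rfl, map_mul, θe, one_mul]
  exact Set.Finite.card_lt_card (Set.toFinite _)
    (Set.ssubset_iff_of_subset hQQ' |>.mpr ⟨s, ⟨s, hs1, rfl⟩, hrQ s hs⟩)

/-! ### The theorem -/

/-- **Transfer.** The case `|C_S(e)| = 8` is impossible. -/
theorem smallCentStep : SmallCentStep.{u} := by
  intro G _ _ S A hT hC
  haveI : Fact (Nat.Prime 2) := ⟨Nat.prime_two⟩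
  obtain ⟨e, he⟩ := hC.exists_outer
  obtain ⟨Q, ⟨h, hQ⟩, hmax⟩ := Set.exists_max_image {Q : Subgroup G | ∃ h, Adm A e Q h}
    (fun Q => Nat.card Q) (Set.toFinite _) (exists_adm hT hC he)
  set D := ext2 Q e (Outer.sq he) hQ.norm with hD
  have hD2 : IsPGroup 2 D := isPGroup_ext2 hQ.two
  obtain ⟨c, hc, hcS⟩ := exists_conj_le_S hT (ext2_le hQ.cent he.1) hD2
  set D' : Subgroup G := D.map (MulAut.conj c).toMonoidHom with hD'
  have hD'S : D' ≤ (S : Subgroup G) := by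
    rintro _ ⟨d, hd, rfl⟩
    exact hcS d hd
  by_cases htop : D' = (S : Subgroup G)
  · have hcard : Nat.card D = 2 ^ (Nat.card G).factorization 2 := by
      rw [← S.card_eq_multiplicity, ← htop]
      exact (Nat.card_congr (D.equivMapOfInjective _ (MulEquiv.injective _)).toEquiv)
    haveI := hT.cfg.simple
    have hQD : Q ≤ D := le_ext2
    have heD : e ∈ D := self_mem_ext2
    have hrel : Q.relIndex D = 2 := relIndex_ext2 (hQ.notMem he)
    rcases H25.thompson_transfer (Sylow.ofCard D hcard) Q hQD hrel e he.2.1 heD (hQ.notMem he) with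
      ⟨M, hMn, hM2, -⟩ | ⟨g, hg⟩
    · rcases hMn.eq_bot_or_eq_top with rfl | rfl
      · rw [index_bot] at hM2
        haveI : IsCyclic G := isCyclic_of_prime_card hM2
        exact hT.cfg.nonab IsCyclic.isMulCommutative
      · rw [index_top] at hM2
        exact absurd hM2 (by norm_num)
    · refine conj_not_mem hT he g (hQ.mem_of_sq hT hC hg ?_)
      rw [conj_mul, Outer.sq he, mul_one, mul_inv_cancel]
  · haveI : Group.IsNilpotent ↥(S : Subgroup G) := S.isPGroup'.isNilpotent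
    have hlt : D'.subgroupOf (S : Subgroup G) < ⊤ := lt_top_iff_ne_top.mpr fun h1 =>
      htop (le_antisymm hD'S (subgroupOf_eq_top.mp h1))
    obtain ⟨y, hy, hyD⟩ :=
      SetLike.exists_of_lt (Group.normalizerCondition_of_isNilpotent _ hlt)
    have hmemD' : ∀ d : G, c * d * c⁻¹ ∈ D' → d ∈ D := fun d hd =>
      (mem_map_iff_mem (MulEquiv.injective (MulAut.conj c))).mp hd
    set x := c⁻¹ * (y : G) * c with hx
    have hxC : x ∈ centralizer (A : Set G) :=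
      (centralizer (A : Set G)).mul_mem ((centralizer (A : Set G)).mul_mem
        ((centralizer (A : Set G)).inv_mem hc) (hT.cent y.2)) hc
    have hxN : x ∈ normalizer (D : Set G) := mem_normalizer_of_conj_mem fun d hd => by
      refine hmemD' _ ?_
      have h1 : c * d * c⁻¹ ∈ D' := ⟨d, hd, rfl⟩
      have h3 := (mem_normalizer_iff.mp hy ⟨_, hD'S h1⟩).mp h1
      convert mem_subgroupOf.mp h3 using 1
      simp [x, mul_assoc]
    have hxD : x ∉ D := fun h1 => hyD (by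
      refine mem_subgroupOf.mpr ?_
      have : c * x * c⁻¹ ∈ D' := ⟨x, h1, rfl⟩
      convert this using 1
      simp [x, mul_assoc])
    have h2 : ∀ k ∈ Q, ∃ j : ℕ, (k * x) ^ 2 ^ j = 1 := fun k hk => by
      obtain ⟨j, hj⟩ := pelem S.isPGroup'
        ((S : Subgroup G).mul_mem (hcS k (le_ext2 hk)) y.2)
      refine ⟨j, (conj_eq_one_iff (a := c)).mp ?_⟩
      rw [← conj_pow]
      convert hj using 2
      simp [x, mul_assoc]
    obtain ⟨Q', h', hQ', hlt'⟩ := larger hT hC he hQ hxC hxN hxD h2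
    exact absurd (hmax Q' ⟨h', hQ'⟩) (Nat.not_le.mpr hlt')

end Cfsg.Agent.H8.WA
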