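import Mathlib.GroupTheory.Sylow
import Mathlib.GroupTheory.SpecificGroups.Cyclic
import Mathlib.Data.Set.Card
import Cfsg.Prelude.Def_Transfer

/-!
# Elements of order three acting fixed-point-freely, extensions by an involution

Tools for the transfer step of the classification of strongly closed four-groups.
-/

set_option autoImplicit false
set_option linter.style.haveILetI false

namespace Cfsg.Agent.H8.WA

open Subgroup
open scoped Pointwise

universe u

variable {G : Type u} [Group G]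

theorem conj_eq_iff_commute {g x : G} : g * x * g⁻¹ = x ↔ Commute g x :=
  mul_inv_eq_iff_eq_mul

theorem pelem {P : Subgroup G} (hP : IsPGroup 2 P) {x : G} (hx : x ∈ P) :
    ∃ k : ℕ, x ^ 2 ^ k = 1 := by
  obtain ⟨k, hk⟩ := hP ⟨x, hx⟩
  exact ⟨k, by simpa using congrArg Subtype.val hk⟩

theorem isPGroup_of_forall {P : Subgroup G} (h : ∀ x ∈ P, ∃ k : ℕ, x ^ 2 ^ k = 1) :
    IsPGroup 2 P := fun x => by
  obtain ⟨k, hk⟩ := h x x.2
  exact ⟨k, Subtype.ext (by simpa using hk)⟩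

theorem isPGroup_zpowers {x : G} {k : ℕ} (hx : x ^ 2 ^ k = 1) : IsPGroup 2 (zpowers x) := by
  refine isPGroup_of_forall ?_
  rintro _ ⟨z, rfl⟩
  refine ⟨k, ?_⟩
  show (x ^ z) ^ 2 ^ k = 1
  rw [← zpow_natCast (x ^ z), ← zpow_mul, mul_comm, zpow_mul, zpow_natCast, hx, one_zpow]

theorem mem_normalizer_of_conj_mem [Finite G] {P : Subgroup G} {x : G}
    (h : ∀ y ∈ P, x * y * x⁻¹ ∈ P) : x ∈ normalizer (P : Set G) :=
  mem_normalizer_fintype (S := (P : Set G)) h

theorem conj_mem_of_mem_normalizer {P : Subgroup G} {x : G} (hx : x ∈ normalizer (P : Set G))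
    {y : G} (hy : y ∈ P) : x * y * x⁻¹ ∈ P :=
  (mem_normalizer_iff.mp hx y).mp hy

/-! ### A stability lemma -/

theorem stab {g r d : G} {n j : ℕ} (hn : Odd n) (hg : g ^ n = 1) (hd : d ^ 2 ^ j = 1)
    (hr : g * r * g⁻¹ = r * d) (hc : Commute g d) : d = 1 := by
  have key : ∀ i : ℕ, g ^ i * r * (g ^ i)⁻¹ = r * d ^ i := by
    intro i
    induction i with
    | zero => simp
    | succ i ih =>
      calc g ^ (i + 1) * r * (g ^ (i + 1))⁻¹ = g * (g ^ i * r * (g ^ i)⁻¹) * g⁻¹ := by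
            rw [pow_succ']; group
        _ = g * (r * d ^ i) * g⁻¹ := by rw [ih]
        _ = (g * r * g⁻¹) * (g * d ^ i * g⁻¹) := by group
        _ = r * d ^ (i + 1) := by
            rw [hr, conj_eq_iff_commute.mpr (hc.pow_right i), pow_succ', mul_assoc]
  have h1 : d ^ n = 1 := by
    have := key n
    rw [hg] at this
    simpa using this
  have h2 : d ^ Nat.gcd n (2 ^ j) = 1 := pow_gcd_eq_one.mpr ⟨h1, hd⟩
  rwa [(Nat.Coprime.pow_right j ((Nat.coprime_two_right).mpr hn)).gcd_eq_one, pow_one] at h2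

/-! ### Fixed-point-free action with trivial cube -/

/-- `h` normalises `K`, fixes only the identity and its cube centralises `K`. -/
structure Cubic (h : G) (K : Subgroup G) : Prop where
  mem : ∀ x ∈ K, h * x * h⁻¹ ∈ K
  fpf : ∀ x ∈ K, h * x * h⁻¹ = x → x = 1
  cube : ∀ x ∈ K, Commute (h ^ 3) x

namespace Cubic

variable {h : G} {K : Subgroup G}

theorem conj3 (H : Cubic h K) {x : G} (hx : x ∈ K) : h * (h * (h * x * h⁻¹) * h⁻¹) * h⁻¹ = x := by
  have := conj_eq_iff_commute.mpr (H.cube x hx)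
  calc h * (h * (h * x * h⁻¹) * h⁻¹) * h⁻¹ = h ^ 3 * x * (h ^ 3)⁻¹ := by
        simp only [pow_succ, pow_zero]; group
    _ = x := this

theorem sq (H : Cubic h K) : Cubic (h * h) K where
  mem x hx := by
    have := H.mem _ (H.mem x hx)
    convert this using 1
    group
  fpf x hx e := by
    refine H.fpf x hx ?_
    calc h * x * h⁻¹ = h * ((h * h) * x * (h * h)⁻¹) * h⁻¹ := by rw [e]
      _ = h * (h * (h * x * h⁻¹) * h⁻¹) * h⁻¹ := by group
      _ = x := H.conj3 hx
  cube x hx := by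
    rw [(Commute.refl h).mul_pow]
    exact (H.cube x hx).mul_left (H.cube x hx)

theorem surj [Finite G] (H : Cubic h K) {k : G} (hk : k ∈ K) :
    ∃ u ∈ K, u⁻¹ * (h * u * h⁻¹) = k := by
  let f : ↥K → ↥K := fun u => ⟨(u : G)⁻¹ * (h * u * h⁻¹), K.mul_mem (K.inv_mem u.2) (H.mem u u.2)⟩
  have hf : Function.Injective f := by
    intro u v e
    have e' : (u : G)⁻¹ * (h * u * h⁻¹) = (v : G)⁻¹ * (h * v * h⁻¹) := congrArg Subtype.val e
    have h1 : h * (v * (u : G)⁻¹) * h⁻¹ = v * (u : G)⁻¹ := by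
      calc h * (v * (u : G)⁻¹) * h⁻¹
          = (v : G) * ((v : G)⁻¹ * (h * v * h⁻¹)) * ((u : G)⁻¹ * (h * u * h⁻¹))⁻¹ * (u : G)⁻¹ := by
            group
        _ = v * (u : G)⁻¹ := by rw [e']; group
    have h2 := H.fpf _ (K.mul_mem v.2 (K.inv_mem u.2)) h1
    exact Subtype.ext (mul_inv_eq_one.mp h2).symm
  obtain ⟨u, hu⟩ := Finite.surjective_of_injective hf ⟨k, hk⟩
  exact ⟨u, u.2, congrArg Subtype.val hu⟩

theorem prod [Finite G] (H : Cubic h K) {x : G} (hx : x ∈ K) :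
    x * (h * x * h⁻¹) * (h * (h * x * h⁻¹) * h⁻¹) = 1 := by
  obtain ⟨u, hu, rfl⟩ := H.surj hx
  calc u⁻¹ * (h * u * h⁻¹) * (h * (u⁻¹ * (h * u * h⁻¹)) * h⁻¹) *
        (h * (h * (u⁻¹ * (h * u * h⁻¹)) * h⁻¹) * h⁻¹)
      = u⁻¹ * (h * (h * (h * u * h⁻¹) * h⁻¹) * h⁻¹) := by group
    _ = 1 := by rw [H.conj3 hu, inv_mul_cancel]

theorem comm [Finite G] (H : Cubic h K) {x : G} (hx : x ∈ K) : Commute x (h * x * h⁻¹) := by
  set a := h * x * h⁻¹
  set b := h * a * h⁻¹
  have h1 : x * a * b = 1 := H.prod hx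
  have h2 : x * b * a = 1 := by
    have := H.sq.prod hx
    have e1 : h * h * x * (h * h)⁻¹ = b := by simp only [b, a]; group
    have e2 : h * h * b * (h * h)⁻¹ = a := by
      calc h * h * b * (h * h)⁻¹ = h * (h * (h * a * h⁻¹) * h⁻¹) * h⁻¹ := by simp only [b]; group
        _ = a := H.conj3 (H.mem x hx)
    rwa [e1, e2] at this
  have hab : Commute a b := by
    show a * b = b * a
    have := h1.trans h2.symm
    simpa [mul_assoc] using this
  have h3 := (hab.map (MulAut.conj (h * h)).toMonoidHom)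
  have e1 : (MulAut.conj (h * h)).toMonoidHom a = x := by
    show h * h * a * (h * h)⁻¹ = x
    calc h * h * a * (h * h)⁻¹ = h * (h * (h * x * h⁻¹) * h⁻¹) * h⁻¹ := by simp only [a]; group
      _ = x := H.conj3 hx
  have e2 : (MulAut.conj (h * h)).toMonoidHom b = a := by
    show h * h * b * (h * h)⁻¹ = a
    calc h * h * b * (h * h)⁻¹ = h * (h * (h * a * h⁻¹) * h⁻¹) * h⁻¹ := by simp only [b]; group
      _ = a := H.conj3 (H.mem x hx)
  rwa [e1, e2] at h3

theorem pow (H : Cubic h K) {m : ℕ} (hm : ¬ 3 ∣ m) : Cubic (h ^ m) K := by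
  have hmem : ∀ i : ℕ, ∀ x ∈ K, h ^ i * x * (h ^ i)⁻¹ ∈ K := by
    intro i
    induction i with
    | zero => intro x hx; simpa using hx
    | succ i ih =>
      intro x hx
      convert H.mem _ (ih x hx) using 1
      rw [pow_succ']; group
  refine ⟨hmem m, fun x hx e => ?_, fun x hx => ?_⟩
  · have h1 : Commute (h ^ m) x := conj_eq_iff_commute.mp e
    rw [← Nat.mod_add_div m 3, pow_add, pow_mul] at h1
    have h2 : Commute ((h ^ 3) ^ (m / 3)) x := (H.cube x hx).pow_left _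
    have h3 : Commute (h ^ (m % 3)) x := by
      have := h1.mul_left h2.inv_left
      rwa [mul_inv_cancel_right] at this
    have : m % 3 = 1 ∨ m % 3 = 2 := by omega
    rcases this with hh | hh <;> rw [hh] at h3
    · rw [pow_one] at h3
      exact H.fpf x hx (conj_eq_iff_commute.mpr h3)
    · rw [pow_two] at h3
      exact H.sq.fpf x hx (conj_eq_iff_commute.mpr h3)
  · rw [← pow_mul, mul_comm, pow_mul]
    exact (H.cube x hx).pow_left m

end Cubic

/-! ### Elementary abelian groups of order four -/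

theorem four_cases [Finite G] {A : Subgroup G} (hA : Cfsg.IsElementaryAbelian 2 A)
    (h4 : Nat.card A = 4) {a b : G} (ha : a ∈ A) (hb : b ∈ A) (ha1 : a ≠ 1) (hb1 : b ≠ 1)
    (hab : a ≠ b) : ∀ x ∈ A, x = 1 ∨ x = a ∨ x = b ∨ x = a * b := by
  have haa : a * a = 1 := by simpa [pow_two] using hA.2 a ha
  have h1 : a ≠ a * b := fun e => hb1 (by simpa using e.symm)
  have h2 : b ≠ a * b := fun e => ha1 (by simpa using e.symm)
  have h3 : (1 : G) ≠ a * b := fun e => hab (by
    have := congrArg (a * ·) e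
    simpa [← mul_assoc, haa] using this)
  have hsub : ({1, a, b, a * b} : Set G) ⊆ (A : Set G) := by
    intro x hx
    rcases hx with rfl | rfl | rfl | rfl
    exacts [A.one_mem, ha, hb, A.mul_mem ha hb]
  have hc : ({1, a, b, a * b} : Set G).ncard = 4 := by
    rw [Set.ncard_insert_of_notMem, Set.ncard_insert_of_notMem, Set.ncard_insert_of_notMem,
      Set.ncard_singleton] <;> simp [h1, h2, h3, hab, ha1.symm, hb1.symm]
  have := Set.eq_of_subset_of_ncard_le hsub (by rw [hc, ← h4]; exact le_of_eq rfl) (Set.toFinite _)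
  intro x hx
  have hx' : x ∈ ({1, a, b, a * b} : Set G) := this ▸ hx
  simpa using hx'

theorem cubic_of_fpf [Finite G] {A : Subgroup G} (hA : Cfsg.IsElementaryAbelian 2 A)
    (h4 : Nat.card A = 4) {h : G} (hn : h ∈ normalizer (A : Set G))
    (hf : ∀ a ∈ A, a ≠ 1 → h * a * h⁻¹ ≠ a) : Cubic h A := by
  refine ⟨fun x hx => conj_mem_of_mem_normalizer hn hx, fun x hx e => by_contra fun h1 =>
    hf x hx h1 e, fun a ha => ?_⟩
  rcases eq_or_ne a 1 with rfl | ha1
  · exact Commute.one_right _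
  have key : h * (h * (h * a * h⁻¹) * h⁻¹) * h⁻¹ = a := by
    set b := h * a * h⁻¹ with hb
    have hbA : b ∈ A := conj_mem_of_mem_normalizer hn ha
    have hb1 : b ≠ 1 := fun e => ha1 (conj_eq_one_iff.mp e)
    have hab : a ≠ b := fun e => hf a ha ha1 e.symm
    have hbb : b * b = 1 := by simpa [pow_two] using hA.2 b hbA
    have hcomm : a * b = b * a := by
      haveI := hA.1
      exact congrArg Subtype.val (IsMulCommutative.is_comm.comm (⟨a, ha⟩ : ↥A) ⟨b, hbA⟩)
    set c := h * b * h⁻¹ with hc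
    rcases four_cases hA h4 ha hbA ha1 hb1 hab c (conj_mem_of_mem_normalizer hn hbA) with
      e | e | e | e
    · exact absurd (conj_eq_one_iff.mp e) hb1
    · exfalso
      refine hf (a * b) (A.mul_mem ha hbA) ?_ ?_
      · intro e1
        exact hab ((eq_inv_of_mul_eq_one_left e1).trans (inv_eq_of_mul_eq_one_right hbb))
      · rw [← conj_mul, ← hb, ← hc, e, hcomm]
    · exact absurd e (hf b hbA hb1)
    · rw [e, ← conj_mul, ← hb, ← hc, e, hcomm, ← mul_assoc, hbb, one_mul]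
  refine conj_eq_iff_commute.mp (Eq.trans ?_ key)
  simp only [pow_succ, pow_zero]; group

/-! ### Adjoining an involution -/

/-- `Q ∪ eQ` for an involution `e` normalising `Q`. -/
def ext2 (Q : Subgroup G) (e : G) (hee : e * e = 1) (hQ : ∀ q ∈ Q, e * q * e ∈ Q) :
    Subgroup G where
  carrier := {x | x ∈ Q ∨ e * x ∈ Q}
  one_mem' := Or.inl Q.one_mem
  mul_mem' := by
    rintro x y (hx | hx) (hy | hy)
    · exact Or.inl (Q.mul_mem hx hy)
    · right
      convert Q.mul_mem (hQ x hx) hy using 1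
      simp [mul_assoc, ← mul_assoc e e, hee]
    · right
      rw [← mul_assoc]
      exact Q.mul_mem hx hy
    · left
      convert Q.mul_mem (hQ _ hx) hy using 1
      simp [mul_assoc, ← mul_assoc e e, hee]
  inv_mem' := by
    rintro x (hx | hx)
    · exact Or.inl (Q.inv_mem hx)
    · right
      convert hQ _ (Q.inv_mem hx) using 1
      simp [mul_assoc, inv_eq_of_mul_eq_one_right hee, hee]

section ext2

variable {Q : Subgroup G} {e : G} {hee : e * e = 1} {hQ : ∀ q ∈ Q, e * q * e ∈ Q}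

theorem mem_ext2 {x : G} : x ∈ ext2 Q e hee hQ ↔ x ∈ Q ∨ e * x ∈ Q := Iff.rfl

theorem le_ext2 : Q ≤ ext2 Q e hee hQ := fun _ h => Or.inl h

theorem self_mem_ext2 : e ∈ ext2 Q e hee hQ := Or.inr (by rw [hee]; exact Q.one_mem)

theorem ext2_le {X : Subgroup G} (hX : Q ≤ X) (he : e ∈ X) : ext2 Q e hee hQ ≤ X := by
  rintro x (hx | hx)
  · exact hX hx
  · exact (X.mul_mem_cancel_left he).mp (hX hx)

theorem isPGroup_ext2 (h2 : IsPGroup 2 Q) : IsPGroup 2 (ext2 Q e hee hQ) := by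
  refine isPGroup_of_forall ?_
  rintro x (hx | hx)
  · exact pelem h2 hx
  · have : x * x ∈ Q := by
      convert Q.mul_mem (hQ _ hx) hx using 1
      simp [mul_assoc, ← mul_assoc e e, hee]
    obtain ⟨k, hk⟩ := pelem h2 this
    exact ⟨k + 1, by rwa [pow_succ', pow_mul, pow_two]⟩

theorem relIndex_ext2 (he : e ∉ Q) : Q.relIndex (ext2 Q e hee hQ) = 2 := by
  rw [relIndex, index_eq_two_iff]
  refine ⟨⟨e, self_mem_ext2⟩, fun b => ?_⟩
  simp only [mem_subgroupOf, coe_mul]
  rcases b.2 with hb | hb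
  · exact Or.inr ⟨hb, fun h => he ((Q.mul_mem_cancel_left hb).mp h)⟩
  · refine Or.inl ⟨?_, fun h => he ?_⟩
    · convert hQ _ hb using 1
      simp [← mul_assoc, hee]
    · exact (Q.mul_mem_cancel_right h).mp hb

theorem card_ext2 (he : e ∉ Q) : Nat.card (ext2 Q e hee hQ) = 2 * Nat.card Q := by
  rw [← (relIndex_ext2 (hee := hee) (hQ := hQ) he),
    ← Nat.card_congr (subgroupOfEquivOfLe (le_ext2 (hee := hee) (hQ := hQ))).toEquiv, mul_comm]
  exact (card_mul_index _).symm

end ext2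

/-! ### Conjugation into a Sylow subgroup -/

/-- A 2-subgroup is conjugate into a given Sylow 2-subgroup. -/
theorem exists_conj_le [Finite G] {H : Subgroup G} (P : Sylow 2 ↥H) {R : Subgroup G} (hR : R ≤ H)
    (h2 : IsPGroup 2 R) :
    ∃ m ∈ H, ∀ r ∈ R, m * r * m⁻¹ ∈ (P : Subgroup ↥H).map H.subtype := by
  haveI : Fact (Nat.Prime 2) := ⟨Nat.prime_two⟩
  obtain ⟨T, hT⟩ := (h2.of_equiv (subgroupOfEquivOfLe hR).symm).exists_le_sylow
  obtain ⟨m, hm⟩ := MulAction.exists_smul_eq ↥H T P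
  refine ⟨m, m.2, fun r hr => ?_⟩
  have h1 : MulAut.conj m • (⟨r, hR hr⟩ : ↥H) ∈ MulAut.conj m • (T : Subgroup ↥H) :=
    smul_mem_pointwise_smul _ _ _ (hT hr)
  change MulAut.conj m • (⟨r, hR hr⟩ : ↥H) ∈ ((m • T : Sylow 2 ↥H) : Subgroup ↥H) at h1
  rw [hm] at h1
  exact ⟨_, h1, rfl⟩

end Cfsg.Agent.H8.WA
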